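import Mathlib

/-!
# An alternating biadditive pairing on roots of unity with values in units is trivial
-/

set_option autoImplicit false
set_option linter.style.haveILetI false

universe u

open MonoidAlgebra

noncomputable section

namespace Groth.Agent.MuPairing

/-- A pairing on `n`-th roots of unity, natural in the algebra, bimultiplicative and alternating. -/
structure Pairing (R : Type u) [CommRing R] (n : ℕ) where
  e : ∀ (A : Type u) [CommRing A] [Algebra R A], rootsOfUnity n A → rootsOfUnity n A → A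
  nat : ∀ (A B : Type u) [CommRing A] [Algebra R A] [CommRing B] [Algebra R B] (φ : A →ₐ[R] B)
    (x y : rootsOfUnity n A), e B (restrictRootsOfUnity φ n x) (restrictRootsOfUnity φ n y) = φ (e A x y)
  mul_left : ∀ (A : Type u) [CommRing A] [Algebra R A] (x x' y : rootsOfUnity n A),
    e A (x * x') y = e A x y * e A x' y
  mul_right : ∀ (A : Type u) [CommRing A] [Algebra R A] (x y y' : rootsOfUnity n A),
    e A x (y * y') = e A x y * e A x y'
  one_right : ∀ (A : Type u) [CommRing A] [Algebra R A] (x : rootsOfUnity n A), e A x 1 = 1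
  alt : ∀ (A : Type u) [CommRing A] [Algebra R A] (x : rootsOfUnity n A), e A x x = 1

variable {R : Type u} [CommRing R] {n : ℕ} [NeZero n]

abbrev G (n : ℕ) := Multiplicative (ZMod n × ZMod n)

/-- the powers of a root of unity, as a character of `ZMod n` -/
def powHom {A : Type u} [CommRing A] (x : rootsOfUnity n A) : Multiplicative (ZMod n) →* A where
  toFun k := ((x : Aˣ) : A) ^ k.toAdd.val
  map_one' := by simp
  map_mul' a b := by
    rw [← pow_add, toAdd_mul, ZMod.val_add]
    have h : ((x : Aˣ) : A) ^ n = 1 := by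
      rw [← Units.val_pow_eq_pow_val, (mem_rootsOfUnity n _).1 x.2, Units.val_one]
    exact (pow_eq_pow_mod _ h).symm

theorem powHom_cast {A : Type u} [CommRing A] (x : rootsOfUnity n A) (k : ℕ) :
    powHom x (Multiplicative.ofAdd (k : ZMod n)) = ((x : Aˣ) : A) ^ k := by
  change ((x : Aˣ) : A) ^ (k : ZMod n).val = _
  rw [ZMod.val_natCast, ← pow_eq_pow_mod]
  rw [← Units.val_pow_eq_pow_val, (mem_rootsOfUnity n _).1 x.2, Units.val_one]

/-- the character of `ZMod n × ZMod n` given by two roots of unity -/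
def pairHom {A : Type u} [CommRing A] (x y : rootsOfUnity n A) : G n →* A where
  toFun g := powHom x (Multiplicative.ofAdd g.toAdd.1) * powHom y (Multiplicative.ofAdd g.toAdd.2)
  map_one' := by simp
  map_mul' a b := by
    rw [toAdd_mul, Prod.fst_add, Prod.snd_add, ofAdd_add, ofAdd_add, map_mul, map_mul]
    ring

/-- the tautological roots of unity -/
def gen (A : Type u) [CommRing A] (g : ZMod n × ZMod n) : rootsOfUnity n (MonoidAlgebra A (G n)) :=
  rootsOfUnity.mkOfPowEq (MonoidAlgebra.of A (G n) (Multiplicative.ofAdd g)) (by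
    rw [← map_pow, ← ofAdd_nsmul, show n • g = 0 from by
      ext <;> simp, ofAdd_zero, map_one])

theorem pairHom_gen {A : Type u} [CommRing A] [Algebra R A] (x y : rootsOfUnity n A) :
    restrictRootsOfUnity (MonoidAlgebra.lift R A (G n) (pairHom x y)) n (gen R (1, 0)) = x ∧
      restrictRootsOfUnity (MonoidAlgebra.lift R A (G n) (pairHom x y)) n (gen R (0, 1)) = y := by
  constructor <;> apply Subtype.ext <;> apply Units.ext
  · rw [restrictRootsOfUnity_coe_apply]
    change MonoidAlgebra.lift R A (G n) (pairHom x y) (MonoidAlgebra.of R (G n) _) = _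
    rw [MonoidAlgebra.lift_of]
    change powHom x (Multiplicative.ofAdd (1 : ZMod n)) * powHom y (Multiplicative.ofAdd (0 : ZMod n)) = _
    rw [ofAdd_zero, (powHom y).map_one, mul_one, ← Nat.cast_one, powHom_cast, pow_one]
  · rw [restrictRootsOfUnity_coe_apply]
    change MonoidAlgebra.lift R A (G n) (pairHom x y) (MonoidAlgebra.of R (G n) _) = _
    rw [MonoidAlgebra.lift_of]
    change powHom x (Multiplicative.ofAdd (0 : ZMod n)) * powHom y (Multiplicative.ofAdd (1 : ZMod n)) = _
    rw [ofAdd_zero, (powHom x).map_one, one_mul, ← Nat.cast_one, powHom_cast, pow_one]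

namespace Pairing

variable (P : Pairing R n)

/-- the coefficient functions of a pairing -/
def coef {A : Type u} [CommRing A] [Algebra R A] (x : rootsOfUnity n A) (k : ZMod n) : A :=
  ∑ i : ZMod n, (P.e (MonoidAlgebra R (G n)) (gen R (1, 0)) (gen R (0, 1))).coeff (Multiplicative.ofAdd (i, k)) •
    powHom x (Multiplicative.ofAdd i)

theorem e_eq_sum {A : Type u} [CommRing A] [Algebra R A] (x y : rootsOfUnity n A) :
    P.e A x y = ∑ k : ZMod n, P.coef x k * powHom y (Multiplicative.ofAdd k) := by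
  obtain ⟨hx, hy⟩ := pairHom_gen (R := R) x y
  have h := P.nat _ A (MonoidAlgebra.lift R A (G n) (pairHom x y)) (gen R (1, 0)) (gen R (0, 1))
  rw [hx, hy] at h
  rw [h, MonoidAlgebra.lift_apply, Finsupp.sum_fintype _ (fun a b => b • pairHom x y a) (fun _ => zero_smul _ _)]
  rw [← Equiv.sum_comp Multiplicative.ofAdd, Fintype.sum_prod_type, Finset.sum_comm]
  refine Finset.sum_congr rfl fun k _ => ?_
  rw [coef, Finset.sum_mul]
  refine Finset.sum_congr rfl fun i _ => ?_
  rw [smul_mul_assoc]
  rfl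

theorem coef_map {A B : Type u} [CommRing A] [Algebra R A] [CommRing B] [Algebra R B] (φ : A →ₐ[R] B)
    (x : rootsOfUnity n A) (k : ZMod n) : P.coef (restrictRootsOfUnity φ n x) k = φ (P.coef x k) := by
  rw [coef, coef, map_sum]
  refine Finset.sum_congr rfl fun i _ => ?_
  rw [map_smul]
  congr 1
  change ((restrictRootsOfUnity φ n x : Bˣ) : B) ^ _ = φ (((x : Aˣ) : A) ^ _)
  rw [map_pow, restrictRootsOfUnity_coe_apply]

/-- lifting a root of unity to the group algebra -/
abbrev up {A : Type u} [CommRing A] [Algebra R A] (x : rootsOfUnity n A) :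
    rootsOfUnity n (MonoidAlgebra A (G n)) :=
  restrictRootsOfUnity (IsScalarTower.toAlgHom R A (MonoidAlgebra A (G n))) n x

theorem powHom_gen (A : Type u) [CommRing A] (g : ZMod n × ZMod n) (k : ZMod n) :
    powHom (gen A g) (Multiplicative.ofAdd k) =
      MonoidAlgebra.single (Multiplicative.ofAdd (k.val • g)) (1 : A) := by
  change (MonoidAlgebra.of A (G n) (Multiplicative.ofAdd g)) ^ k.val = _
  rw [← map_pow, ← ofAdd_nsmul]
  rfl

theorem coef_mul_coef {A : Type u} [CommRing A] [Algebra R A] (x : rootsOfUnity n A) (k l : ZMod n) :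
    P.coef x k * P.coef x l = if k = l then P.coef x k else 0 := by
  classical
  let y := gen (n := n) A (1, 0)
  let y' := gen (n := n) A (0, 1)
  have hval : ∀ j : ZMod n, j.val • ((1, 0) : ZMod n × ZMod n) = (j, 0) ∧
      j.val • ((0, 1) : ZMod n × ZMod n) = (0, j) := fun j => by
    constructor <;> ext <;> simp [nsmul_eq_mul]
  have h1 : ∀ j : ZMod n, P.coef (up (R := R) x) j = MonoidAlgebra.single (1 : G n) (P.coef x j) := fun j => by
    rw [P.coef_map]; rfl
  have h := P.mul_right _ (up (R := R) x) y y'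
  rw [P.e_eq_sum, P.e_eq_sum, P.e_eq_sum, Finset.sum_mul_sum] at h
  have hd : ∀ j : ZMod n, powHom (y * y') (Multiplicative.ofAdd j) =
      MonoidAlgebra.single (Multiplicative.ofAdd (j, j)) (1 : A) := fun j => by
    have : powHom (y * y') (Multiplicative.ofAdd j) =
        powHom y (Multiplicative.ofAdd j) * powHom y' (Multiplicative.ofAdd j) := mul_pow _ _ _
    rw [this, powHom_gen, powHom_gen, (hval j).1, (hval j).2, MonoidAlgebra.single_mul_single, one_mul,
      ← ofAdd_add, Prod.mk_add_mk, add_zero, zero_add]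
  simp only [h1, hd] at h
  simp only [y, y', powHom_gen, fun j => (hval j).1, fun j => (hval j).2, MonoidAlgebra.single_mul_single,
    one_mul, mul_one, ← ofAdd_add, Prod.mk_add_mk, add_zero, zero_add] at h
  have h' := congrArg (fun z : MonoidAlgebra A (G n) => z.coeff (Multiplicative.ofAdd (k, l))) h
  simp only [MonoidAlgebra.coeff_sum, Finsupp.finsetSum_apply, MonoidAlgebra.coeff_single,
    Finsupp.single_apply, EmbeddingLike.apply_eq_iff_eq, Prod.mk.injEq] at h'
  simp only [ite_and, Finset.sum_ite_irrel, Finset.sum_const_zero, Finset.sum_ite_eq', Finset.mem_univ, if_true] at h'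
  exact h'.symm

theorem sum_coef {A : Type u} [CommRing A] [Algebra R A] (x : rootsOfUnity n A) :
    ∑ k : ZMod n, P.coef x k = 1 := by
  rw [← P.one_right A x, P.e_eq_sum]
  refine Finset.sum_congr rfl fun k _ => ?_
  rw [show powHom (1 : rootsOfUnity n A) (Multiplicative.ofAdd k) = 1 from one_pow _, mul_one]

theorem exists_index {Ω : Type u} [Field Ω] [Algebra R Ω] (x : rootsOfUnity n Ω) :
    ∃ k : ZMod n, P.coef x k = 1 ∧ (∀ j, j ≠ k → P.coef x j = 0) ∧
      ∀ y : rootsOfUnity n Ω, P.e Ω x y = powHom y (Multiplicative.ofAdd k) := by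
  obtain ⟨k, hk⟩ : ∃ k, P.coef x k ≠ 0 := by
    by_contra hc
    push Not at hc
    exact zero_ne_one ((Finset.sum_eq_zero fun k _ => hc k).symm.trans (P.sum_coef x))
  have hk1 : P.coef x k = 1 := by
    have := P.coef_mul_coef x k k
    rw [if_pos rfl] at this
    exact mul_left_cancel₀ hk (this.trans (mul_one _).symm)
  have h0 : ∀ j, j ≠ k → P.coef x j = 0 := fun j hj => by
    have := P.coef_mul_coef x j k
    rwa [if_neg hj, hk1, mul_one] at this
  refine ⟨k, hk1, h0, fun y => ?_⟩
  rw [P.e_eq_sum, Finset.sum_eq_single k (fun j _ hj => by rw [h0 j hj, zero_mul])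
    (fun he => absurd (Finset.mem_univ _) he), hk1, one_mul]

theorem index_mul {Ω : Type u} [Field Ω] [Algebra R Ω] {x x' : rootsOfUnity n Ω} {k k' : ZMod n}
    (hk : P.coef x k = 1) (hk' : P.coef x' k' = 1) : P.coef (x * x') (k + k') = 1 := by
  classical
  let y := gen (n := n) Ω (1, 0)
  have hval : ∀ j : ZMod n, j.val • ((1, 0) : ZMod n × ZMod n) = (j, 0) := fun j => by
    ext <;> simp [nsmul_eq_mul]
  have h0 : ∀ {z : rootsOfUnity n Ω} {m : ZMod n}, P.coef z m = 1 → ∀ j, j ≠ m → P.coef z j = 0 :=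
    fun {z m} hm j hj => by
      have := P.coef_mul_coef z j m
      rwa [if_neg hj, hm, mul_one] at this
  have h1 : ∀ (z : rootsOfUnity n Ω) (j : ZMod n),
      P.coef (up (R := R) z) j = MonoidAlgebra.single (1 : G n) (P.coef z j) := fun z j => by
    rw [P.coef_map]; rfl
  have h := P.mul_left _ (up (R := R) x) (up (R := R) x') y
  rw [← map_mul, P.e_eq_sum, P.e_eq_sum, P.e_eq_sum] at h
  simp only [h1, y, powHom_gen, hval, MonoidAlgebra.single_mul_single, one_mul, mul_one] at h
  have hs : ∀ {z : rootsOfUnity n Ω} {m : ZMod n}, P.coef z m = 1 →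
      ∑ j : ZMod n, MonoidAlgebra.single (Multiplicative.ofAdd ((j, 0) : ZMod n × ZMod n)) (P.coef z j) =
        MonoidAlgebra.single (Multiplicative.ofAdd ((m, 0) : ZMod n × ZMod n)) (1 : Ω) := fun {z m} hm => by
    rw [Finset.sum_eq_single m (fun j _ hj => by rw [h0 hm j hj, MonoidAlgebra.single_zero])
      (fun he => absurd (Finset.mem_univ _) he), hm]
  rw [hs hk, hs hk', MonoidAlgebra.single_mul_single, one_mul, ← ofAdd_add, Prod.mk_add_mk, add_zero] at h
  have h' := congrArg (fun z : MonoidAlgebra Ω (G n) => z.coeff (Multiplicative.ofAdd (k + k', 0))) h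
  simp only [MonoidAlgebra.coeff_sum, Finsupp.finsetSum_apply, MonoidAlgebra.coeff_single,
    Finsupp.single_apply, EmbeddingLike.apply_eq_iff_eq, Prod.mk.injEq, and_true] at h'
  simpa using h'

theorem coef_eq_zero_of_isAlgClosed {Ω : Type u} [Field Ω] [IsAlgClosed Ω] [Algebra R Ω]
    (x : rootsOfUnity n Ω) {k : ZMod n} (hk : k ≠ 0) : P.coef x k = 0 := by
  obtain ⟨p, hp⟩ := ExpChar.exists Ω
  haveI := hp
  obtain ⟨a, m, hm, hnm⟩ : ∃ a m : ℕ, (m : Ω) ≠ 0 ∧ n = p ^ a * m := by
    rcases ‹ExpChar Ω p› with _ | ⟨hpr⟩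
    · exact ⟨0, n, by exact_mod_cast NeZero.ne n, by simp⟩
    · obtain ⟨a, m, hm, hnm⟩ := Nat.exists_eq_pow_mul_and_not_dvd (NeZero.ne n) p hpr.ne_one
      exact ⟨a, m, fun h => hm ((CharP.cast_eq_zero_iff Ω p m).1 h), hnm⟩
  haveI : NeZero (m : Ω) := ⟨hm⟩
  haveI : NeZero m := ⟨fun h => hm (by rw [h, Nat.cast_zero])⟩
  have hcop : Nat.Coprime (p ^ a) m := by
    rcases ‹ExpChar Ω p› with _ | ⟨hpr⟩
    · simp
    · exact ((hpr.coprime_iff_not_dvd).2 fun h => hm ((CharP.cast_eq_zero_iff Ω p m).2 h)).pow_left a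
  obtain ⟨ζ, hζ⟩ := IsCyclic.exists_generator (α := rootsOfUnity n Ω)
  have hord : orderOf ζ = m := by
    rw [orderOf_eq_card_of_forall_mem_zpowers hζ,
      show rootsOfUnity n Ω = rootsOfUnity m Ω from by
        ext u; rw [hnm]; exact mem_rootsOfUnity_prime_pow_mul_iff Ω p a m]
    exact HasEnoughRootsOfUnity.natCard_rootsOfUnity Ω m
  obtain ⟨k₀, hk₀, -, he⟩ := P.exists_index ζ
  have hpow : ∀ i : ℕ, P.coef (ζ ^ i) (i • k₀) = 1 := by
    intro i
    induction i with
    | zero =>
      rw [pow_zero, zero_smul]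
      obtain ⟨l, hl, -, -⟩ := P.exists_index (1 : rootsOfUnity n Ω)
      have h2 := P.index_mul hl hl
      rw [one_mul] at h2
      by_cases hl0 : l = 0
      · rwa [hl0] at hl
      · exfalso
        have := P.coef_mul_coef (1 : rootsOfUnity n Ω) (l + l) l
        rw [if_neg (by simpa using hl0), h2, hl, mul_one] at this
        exact one_ne_zero this
    | succ i ih => rw [pow_succ, succ_nsmul]; exact P.index_mul ih hk₀
  have huniq : ∀ {z : rootsOfUnity n Ω} {a b : ZMod n}, P.coef z a = 1 → P.coef z b = 1 → a = b :=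
    fun {z a b} ha hb => by
      by_contra hab
      have := P.coef_mul_coef z a b
      rw [if_neg hab, ha, hb, mul_one] at this
      exact one_ne_zero this
  have hm0 : m • k₀ = 0 := by
    have h1 := hpow m
    rw [← hord, pow_orderOf_eq_one] at h1
    have h2 := hpow 0
    rw [pow_zero, zero_smul] at h2
    rw [← hord]
    exact huniq h1 h2
  have hdvd : m ∣ k₀.val := by
    rw [← hord]
    apply orderOf_dvd_of_pow_eq_one
    apply Subtype.ext; apply Units.ext
    exact ((he ζ).symm.trans (P.alt Ω ζ))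
  have hk00 : k₀ = 0 := by
    rw [← ZMod.natCast_zmod_val k₀, ZMod.natCast_eq_zero_iff]
    rw [← ZMod.natCast_zmod_val k₀, ← Nat.cast_smul_eq_nsmul (ZMod n), smul_eq_mul, ← Nat.cast_mul,
      ZMod.natCast_eq_zero_iff] at hm0
    refine hnm.dvd.trans (hcop.mul_dvd_of_dvd_of_dvd ?_ hdvd)
    exact hcop.dvd_of_dvd_mul_left ((dvd_mul_right (p ^ a) m).trans (hnm.symm.dvd.trans hm0))
  obtain ⟨i, rfl⟩ : ∃ i : ℕ, ζ ^ i = x := Subgroup.mem_zpowers_iff.1 (hζ x) |>.elim fun j hj => by
    exact (isOfFinOrder_of_finite ζ).mem_powers_iff_mem_zpowers.2 (hζ x)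
  have h1 := hpow i
  rw [hk00, smul_zero] at h1
  have := P.coef_mul_coef (ζ ^ i) k 0
  rwa [if_neg hk, h1, mul_one] at this

theorem coef_eq_zero {A : Type u} [CommRing A] [Algebra R A] (x : rootsOfUnity n A) {k : ZMod n} (hk : k ≠ 0) :
    P.coef x k = 0 := by
  refine IsIdempotentElem.eq_zero_of_isNilpotent ?_ ?_
  · exact (P.coef_mul_coef x k k).trans (if_pos rfl)
  · rw [← mem_nilradical, nilradical_eq_sInf, Ideal.mem_sInf]
    intro q hq
    haveI : q.IsPrime := hq
    let φ : A →ₐ[R] AlgebraicClosure q.ResidueField := IsScalarTower.toAlgHom R A _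
    have h := P.coef_eq_zero_of_isAlgClosed (restrictRootsOfUnity φ n x) hk
    rw [P.coef_map] at h
    rw [← Ideal.algebraMap_residueField_eq_zero]
    apply (algebraMap q.ResidueField (AlgebraicClosure q.ResidueField)).injective
    rw [map_zero, ← IsScalarTower.algebraMap_apply]
    exact h

theorem eq_one {A : Type u} [CommRing A] [Algebra R A] (x y : rootsOfUnity n A) : P.e A x y = 1 := by
  have h := P.sum_coef x
  rw [Finset.sum_eq_single 0 (fun j _ hj => P.coef_eq_zero x hj) (fun he => absurd (Finset.mem_univ _) he)] at h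
  rw [P.e_eq_sum, Finset.sum_eq_single 0 (fun j _ hj => by rw [P.coef_eq_zero x hj, zero_mul])
    (fun he => absurd (Finset.mem_univ _) he), h, one_mul, ofAdd_zero, map_one]

end Pairing

end Groth.Agent.MuPairing
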