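import Groth.Prelude.Def_Red2
import Groth.Prelude.Def_AlgGrp
import Groth.Agent.CoverMap.Group
import Groth.Agent.LieDiag.Basic
import Groth.Agent.MuPairing.Alg

/-!
# Central extensions of `μ_n` by `𝔾_m` are commutative
-/

set_option autoImplicit false
set_option backward.isDefEq.respectTransparency false
set_option maxHeartbeats 800000
set_option synthInstance.maxHeartbeats 400000
set_option linter.style.haveILetI false

universe u

open CategoryTheory MonoidalCategory CartesianMonoidalCategory AlgebraicGeometry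
open scoped CategoryTheory.MonObj CategoryTheory.GrpObj
open Groth.Agent.LieDiag (specOver specOver_mapMulEquiv)

noncomputable section

namespace Groth.Agent.MuPairing

variable {R : Type u} [CommRing R] {M : Type} [AddCommGroup M]

/-- the affine `R`-scheme of an algebra -/
abbrev tS (R : Type u) [CommRing R] (A : Type u) [CommRing A] [Algebra R A] : Over (Spec (CommRingCat.of R)) :=
  (Spec (CommRingCat.of A)).asOver (Spec (CommRingCat.of R))

variable {A B : Type u} [CommRing A] [Algebra R A] [CommRing B] [Algebra R B]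

/-- the character values of a point of a diagonalisable group -/
def val (x : tS R A ⟶ Red.diag R M) : Multiplicative M →* A :=
  ((Spec.mapMulEquiv.symm x).ofConv : MonoidAlgebra R (Multiplicative M) →* A).comp (MonoidAlgebra.of R _)

/-- the point with given character values -/
def pt (χ : Multiplicative M →* A) : tS R A ⟶ Red.diag R M :=
  Spec.mapMulEquiv ⟨MonoidAlgebra.lift R A (Multiplicative M) χ⟩

theorem val_pt (χ : Multiplicative M →* A) : val (pt (R := R) χ) = χ := by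
  ext m
  rw [val, pt, MulEquiv.symm_apply_apply]
  exact MonoidAlgebra.lift_of χ m

theorem pt_val (x : tS R A ⟶ Red.diag R M) : pt (val x) = x := by
  apply Spec.mapMulEquiv.symm.injective
  rw [pt, MulEquiv.symm_apply_apply]
  exact WithConv.ofConv_injective (MonoidAlgebra.lift_unique' _).symm

theorem val_injective {x y : tS R A ⟶ Red.diag R M} (h : val x = val y) : x = y := by
  rw [← pt_val x, h, pt_val]

theorem val_mul (x y : tS R A ⟶ Red.diag R M) (m : Multiplicative M) : val (x * y) m = val x m * val y m := by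
  change (Spec.mapMulEquiv.symm (x * y)).ofConv _ = _
  rw [map_mul]
  exact MonoidAlgebra.convMul_algHom_single_one _ _ m

theorem val_comp (φ : A →ₐ[R] B) (x : tS R A ⟶ Red.diag R M) (m : Multiplicative M) :
    val (specOver R φ ≫ x) m = φ (val x m) := by
  conv_lhs => rw [← pt_val x, pt, specOver_mapMulEquiv]
  rw [val, MulEquiv.symm_apply_apply]
  exact congrArg φ (MonoidAlgebra.lift_of _ m)

theorem val_one (m : Multiplicative M) : val (1 : tS R A ⟶ Red.diag R M) m = 1 := by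
  have h := val_mul (1 : tS R A ⟶ Red.diag R M) 1 m
  rw [one_mul] at h
  have hu : IsUnit (val (1 : tS R A ⟶ Red.diag R M) m) := (Group.isUnit m).map _
  exact hu.mul_left_cancel (h.symm.trans (mul_one _).symm)

variable {n : ℕ} [NeZero n]

/-- a root of unity as a point of `μ_n` -/
def muPt (x : rootsOfUnity n A) : tS R A ⟶ Red.diag R (ZMod n) := pt (powHom x)

theorem muPt_mul (x y : rootsOfUnity n A) : muPt (R := R) (x * y) = muPt x * muPt y := by
  apply val_injective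
  refine MonoidHom.ext fun m => ?_
  rw [val_mul, muPt, muPt, muPt, val_pt, val_pt, val_pt]
  exact mul_pow _ _ _

theorem muPt_one : muPt (R := R) (1 : rootsOfUnity n A) = 1 := by
  apply val_injective
  refine MonoidHom.ext fun m => ?_
  rw [val_one, muPt, val_pt]
  exact one_pow _

theorem muPt_comp (φ : A →ₐ[R] B) (x : rootsOfUnity n A) :
    specOver R φ ≫ muPt x = muPt (restrictRootsOfUnity φ n x) := by
  apply val_injective
  refine MonoidHom.ext fun m => ?_
  rw [val_comp, muPt, muPt, val_pt, val_pt]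
  exact map_pow φ _ _

theorem exists_muPt (x : tS R A ⟶ Red.diag R (ZMod n)) : ∃ r : rootsOfUnity n A, muPt r = x := by
  refine ⟨rootsOfUnity.mkOfPowEq (val x (Multiplicative.ofAdd 1)) ?_, ?_⟩
  · rw [← map_pow, ← ofAdd_nsmul, show n • (1 : ZMod n) = 0 from by simp, ofAdd_zero, map_one]
  · apply val_injective
    rw [muPt, val_pt]
    refine MonoidHom.ext fun m => ?_
    obtain ⟨k, rfl⟩ : ∃ k : ℕ, Multiplicative.ofAdd (k : ZMod n) = m := ⟨m.toAdd.val, by
      rw [ZMod.natCast_zmod_val]; rfl⟩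
    rw [powHom_cast]
    change val x (Multiplicative.ofAdd 1) ^ k = _
    rw [← map_pow, ← ofAdd_nsmul, nsmul_one]

section Generic

theorem comm_calc {G : Type*} [CommGroup G] (a b : G) : a * b * a⁻¹ * b⁻¹ = 1 := by rw [mul_comm a b]; group

theorem cm_mul_central {G : Type*} [Group G] (g h z w : G) (hz : ∀ a, a * z = z * a) (hw : ∀ a, a * w = w * a) :
    (g * z) * (h * w) * (g * z)⁻¹ * (h * w)⁻¹ = g * h * g⁻¹ * h⁻¹ := by
  have h1 : ∀ a, z * a * z⁻¹ = a := fun a => by rw [← hz]; group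
  have h2 : ∀ a, w * a * w⁻¹ = a := fun a => by rw [← hw]; group
  calc (g * z) * (h * w) * (g * z)⁻¹ * (h * w)⁻¹
      = g * (z * (h * w) * z⁻¹) * g⁻¹ * w⁻¹ * h⁻¹ := by group
    _ = g * h * (w * g⁻¹ * w⁻¹) * h⁻¹ := by rw [h1]; group
    _ = g * h * g⁻¹ * h⁻¹ := by rw [h2]

theorem cm_eq_of_eq {G : Type*} [Group G] (g g' h h' : G) (hz : ∀ a, a * (g'⁻¹ * g) = (g'⁻¹ * g) * a)
    (hw : ∀ a, a * (h'⁻¹ * h) = (h'⁻¹ * h) * a) :
    g * h * g⁻¹ * h⁻¹ = g' * h' * g'⁻¹ * h'⁻¹ := by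
  have := cm_mul_central g' h' _ _ hz hw
  rwa [mul_inv_cancel_left, mul_inv_cancel_left] at this

theorem cm_mul_left {G : Type*} [Group G] (g g' h : G)
    (hc : ∀ a, a * (g' * h * g'⁻¹ * h⁻¹) = (g' * h * g'⁻¹ * h⁻¹) * a) :
    (g * g') * h * (g * g')⁻¹ * h⁻¹ = (g * h * g⁻¹ * h⁻¹) * (g' * h * g'⁻¹ * h⁻¹) := by
  calc (g * g') * h * (g * g')⁻¹ * h⁻¹ = g * (g' * h * g'⁻¹ * h⁻¹) * (h * g⁻¹ * h⁻¹) := by group
    _ = (g' * h * g'⁻¹ * h⁻¹) * (g * h * g⁻¹ * h⁻¹) := by rw [hc g]; group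
    _ = (g * h * g⁻¹ * h⁻¹) * (g' * h * g'⁻¹ * h⁻¹) := (hc _).symm

theorem cm_mul_right {G : Type*} [Group G] (g h h' : G)
    (hc : ∀ a, a * (g * h' * g⁻¹ * h'⁻¹) = (g * h' * g⁻¹ * h'⁻¹) * a) :
    g * (h * h') * g⁻¹ * (h * h')⁻¹ = (g * h * g⁻¹ * h⁻¹) * (g * h' * g⁻¹ * h'⁻¹) := by
  calc g * (h * h') * g⁻¹ * (h * h')⁻¹ = (g * h * g⁻¹) * (g * h' * g⁻¹ * h'⁻¹) * h⁻¹ := by group
    _ = (g * h' * g⁻¹ * h'⁻¹) * (g * h * g⁻¹) * h⁻¹ := by rw [hc (g * h * g⁻¹)]
    _ = (g * h' * g⁻¹ * h'⁻¹) * (g * h * g⁻¹ * h⁻¹) := by group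
    _ = (g * h * g⁻¹ * h⁻¹) * (g * h' * g⁻¹ * h'⁻¹) := (hc _).symm

theorem cm_self {G : Type*} [Group G] (g : G) : g * g * g⁻¹ * g⁻¹ = 1 := by group

theorem eq_of_cm {G : Type*} [Group G] (g h : G) (e : g * h * g⁻¹ * h⁻¹ = 1) : g * h = h * g := by
  calc g * h = (g * h * g⁻¹ * h⁻¹) * (h * g) := by group
    _ = h * g := by rw [e, one_mul]

variable {S : Scheme.{u}} {E Q K : Over S} [GrpObj E]

/-- the commutator of two points -/
def cm {T : Over S} (g h : T ⟶ E) : T ⟶ E := g * h * g⁻¹ * h⁻¹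

theorem comp_cm {T T' : Over S} (a : T' ⟶ T) (g h : T ⟶ E) : a ≫ cm g h = cm (a ≫ g) (a ≫ h) := by
  simp only [cm, MonObj.comp_mul, GrpObj.comp_inv]

variable [GrpObj Q] [IsCommMonObj Q] [GrpObj K] (i : K ⟶ E) [IsMonHom i] (q : E ⟶ Q) [IsMonHom q]

theorem cm_comp_q {T : Over S} (g h : T ⟶ E) : cm g h ≫ q = 1 := by
  rw [cm, MonObj.mul_comp, MonObj.mul_comp, MonObj.mul_comp, GrpObj.inv_comp, GrpObj.inv_comp]
  exact comm_calc (G := T ⟶ Q) _ _

/-- The commutator pairing of a central extension descends to the quotient, bimultiplicative and alternating. -/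
theorem exists_pairing_map (hker : AlgGrp.IsKernel i q)
    (hcent : ∀ (T : Over S) (g : T ⟶ E) (t : T ⟶ K), g * (t ≫ i) = (t ≫ i) * g)
    (hcov : CoverMap.Covers q.left) :
    ∃ e : Q ⊗ Q ⟶ K,
      (∀ (T : Over S) (x x' y : T ⟶ Q), lift (x * x') y ≫ e = (lift x y ≫ e) * (lift x' y ≫ e)) ∧
      (∀ (T : Over S) (x y y' : T ⟶ Q), lift x (y * y') ≫ e = (lift x y ≫ e) * (lift x y' ≫ e)) ∧
      (∀ (T : Over S) (x : T ⟶ Q), lift x 1 ≫ e = 1) ∧
      (∀ (T : Over S) (x : T ⟶ Q), lift x x ≫ e = 1) ∧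
      (e = 1 → ∀ (T : Over S) (g h : T ⟶ E), g * h = h * g) := by
  haveI : Mono i := ⟨fun a b h => hker.hom_ext h (toUnit_unique _ _)⟩
  have hex : ∀ {T : Over S} (z : T ⟶ E), z ≫ q = 1 → ∃ t : T ⟶ K, t ≫ i = z := fun {T} z hz => by
    exact ⟨hker.lift z (toUnit T) (by rw [hz]; rfl), hker.lift_fst _ _ _⟩
  have hcqq := CoverMap.covers_tensorHom hcov hcov
  haveI := CoverMap.epi_over hcov
  haveI : Epi ((q ⊗ₘ q) ⊗ₘ q) := CoverMap.epi_over (CoverMap.covers_tensorHom hcqq hcov)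
  obtain ⟨c, hc⟩ := hex (cm (fst E E) (snd E E)) (cm_comp_q q _ _)
  have hcen : ∀ {T : Over S} (g h a : T ⟶ E), a * cm g h = cm g h * a := fun {T} g h a => by
    obtain ⟨t, ht⟩ := hex (cm g h) (cm_comp_q q _ _)
    rw [← ht]; exact hcent T a t
  obtain ⟨e, he, -⟩ := CoverMap.existsUnique_fac hcqq c fun T x y hxy => by
    have e1 : (x ≫ fst E E) ≫ q = (y ≫ fst E E) ≫ q := by simpa using congr($hxy ≫ fst _ _)
    have e2 : (x ≫ snd E E) ≫ q = (y ≫ snd E E) ≫ q := by simpa using congr($hxy ≫ snd _ _)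
    have hk : ∀ a b : T ⟶ E, a ≫ q = b ≫ q → ∀ c : T ⟶ E, c * (b⁻¹ * a) = (b⁻¹ * a) * c := fun a b hab c => by
      obtain ⟨t, ht⟩ := hex (b⁻¹ * a) (by rw [MonObj.mul_comp, GrpObj.inv_comp, hab, inv_mul_cancel])
      rw [← ht]; exact hcent T c t
    rw [← cancel_mono i, Category.assoc, Category.assoc, hc, comp_cm, comp_cm]
    exact cm_eq_of_eq _ _ _ _ (hk _ _ e1) (hk _ _ e2)
  have hev : ∀ {T : Over S} (g h : T ⟶ E), (lift (g ≫ q) (h ≫ q) ≫ e) ≫ i = cm g h := fun {T} g h => by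
    rw [← lift_map, Category.assoc (lift g h), he, Category.assoc, hc, comp_cm, lift_fst, lift_snd]
  let P1 : (Q ⊗ Q) ⊗ Q ⟶ Q := fst _ _ ≫ fst _ _
  let P2 : (Q ⊗ Q) ⊗ Q ⟶ Q := fst _ _ ≫ snd _ _
  let P3 : (Q ⊗ Q) ⊗ Q ⟶ Q := snd _ _
  let Q1 : (E ⊗ E) ⊗ E ⟶ E := fst _ _ ≫ fst _ _
  let Q2 : (E ⊗ E) ⊗ E ⟶ E := fst _ _ ≫ snd _ _
  let Q3 : (E ⊗ E) ⊗ E ⟶ E := snd _ _
  have hP1 : ((q ⊗ₘ q) ⊗ₘ q) ≫ P1 = Q1 ≫ q := by simp [P1, Q1]
  have hP2 : ((q ⊗ₘ q) ⊗ₘ q) ≫ P2 = Q2 ≫ q := by simp [P2, Q2]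
  have hP3 : ((q ⊗ₘ q) ⊗ₘ q) ≫ P3 = Q3 ≫ q := by simp [P3, Q3]
  have hl : lift (P1 * P2) P3 ≫ e = (lift P1 P3 ≫ e) * (lift P2 P3 ≫ e) := by
    rw [← cancel_epi ((q ⊗ₘ q) ⊗ₘ q), MonObj.comp_mul, ← Category.assoc, ← Category.assoc, ← Category.assoc,
      comp_lift, comp_lift, comp_lift, MonObj.comp_mul, hP1, hP2, hP3, ← MonObj.mul_comp, ← cancel_mono i,
      MonObj.mul_comp (g := i), hev, hev, hev]
    exact cm_mul_left _ _ _ (hcen _ _)
  have hr : lift P1 (P2 * P3) ≫ e = (lift P1 P2 ≫ e) * (lift P1 P3 ≫ e) := by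
    rw [← cancel_epi ((q ⊗ₘ q) ⊗ₘ q), MonObj.comp_mul, ← Category.assoc, ← Category.assoc, ← Category.assoc,
      comp_lift, comp_lift, comp_lift, MonObj.comp_mul, hP1, hP2, hP3, ← MonObj.mul_comp, ← cancel_mono i,
      MonObj.mul_comp (g := i), hev, hev, hev]
    exact cm_mul_right _ _ _ (hcen _ _)
  have halt : lift (𝟙 Q) (𝟙 Q) ≫ e = 1 := by
    rw [← cancel_epi q, ← Category.assoc, comp_lift, Category.comp_id, MonObj.comp_one, ← cancel_mono i,
      MonObj.one_comp, show q = 𝟙 E ≫ q from (Category.id_comp q).symm, hev]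
    exact cm_self _
  have hR : ∀ (T : Over S) (x y y' : T ⟶ Q), lift x (y * y') ≫ e = (lift x y ≫ e) * (lift x y' ≫ e) := fun T x y y' => by
    have := congr(lift (lift x y) y' ≫ $hr)
    rw [MonObj.comp_mul, ← Category.assoc, ← Category.assoc, ← Category.assoc, comp_lift, comp_lift, comp_lift,
      MonObj.comp_mul] at this
    simpa [P1, P2, P3] using this
  refine ⟨e, fun T x x' y => ?_, hR, fun T x => ?_, fun T x => ?_, fun he1 T g h => ?_⟩
  · have := congr(lift (lift x x') y ≫ $hl)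
    rw [MonObj.comp_mul, ← Category.assoc, ← Category.assoc, ← Category.assoc, comp_lift, comp_lift, comp_lift,
      MonObj.comp_mul] at this
    simpa [P1, P2, P3] using this
  · have := hR T x 1 1
    rw [_root_.one_mul] at this
    exact left_eq_mul.1 this
  · have := congr(x ≫ $halt)
    rwa [← Category.assoc, comp_lift, Category.comp_id, MonObj.comp_one] at this
  · have := hev g h
    rw [he1, MonObj.comp_one, MonObj.one_comp] at this
    exact eq_of_cm g h this.symm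

end Generic

section Extension

variable {E : Over (Spec (CommRingCat.of R))} [GrpObj E] (i : Red.diag R ℤ ⟶ E) [IsMonHom i]
  (q : E ⟶ Red.diag R (ZMod n)) [IsMonHom q]

/-- Central extensions of `μ_n` by `𝔾_m` are commutative. -/
theorem comm_of_central (hker : AlgGrp.IsKernel i q)
    (hcent : ∀ (T : Over (Spec (CommRingCat.of R))) (g : T ⟶ E) (t : T ⟶ Red.diag R ℤ),
      g * (t ≫ i) = (t ≫ i) * g)
    (hq : Flat q.left ∧ Surjective q.left ∧ LocallyOfFinitePresentation q.left)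
    (T : Over (Spec (CommRingCat.of R))) (g h : T ⟶ E) : g * h = h * g := by
  haveI := hq.1; haveI := hq.2.1; haveI := hq.2.2
  have hcq : CoverMap.Covers q.left :=
    ⟨_, q.left, 𝟙 _, Scheme.fppfPrecoverage_le_fpqcPrecoverage _ q.left.singleton_mem_fppfPrecoverage,
      Category.id_comp _⟩
  obtain ⟨e, hl, hr, h1, ha, hfin⟩ := exists_pairing_map i q hker hcent hcq
  refine hfin ?_ T g h
  let P : Pairing R n :=
    { e := fun A _ _ x y => val (lift (muPt x) (muPt y) ≫ e) (Multiplicative.ofAdd 1)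
      nat := fun A B _ _ _ _ φ x y => by
        show val _ _ = _
        rw [← muPt_comp, ← muPt_comp, ← comp_lift, Category.assoc, val_comp]
      mul_left := fun A _ _ x x' y => by
        show val _ _ = _
        rw [muPt_mul, hl, val_mul]
      mul_right := fun A _ _ x y y' => by
        show val _ _ = _
        rw [muPt_mul, hr, val_mul]
      one_right := fun A _ _ x => by
        show val _ _ = _
        rw [muPt_one, h1, val_one]
      alt := fun A _ _ x => by
        show val _ _ = _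
        rw [ha, val_one] }
  let W := (Red.diag R (ZMod n) ⊗ Red.diag R (ZMod n))
  haveI : IsAffine W.left := by
    haveI : IsAffine (Red.diag R (ZMod n)).left :=
      inferInstanceAs (IsAffine (Spec (CommRingCat.of (MonoidAlgebra R (Multiplicative (ZMod n))))))
    change IsAffine (Limits.pullback _ _)
    infer_instance
  letI : Algebra R Γ(W.left, ⊤) := ((Scheme.ΓSpecIso (CommRingCat.of R)).inv ≫ W.hom.appTop).hom.toAlgebra
  let j : tS R Γ(W.left, ⊤) ⟶ W := Over.homMk W.left.isoSpec.inv (by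
    rw [Iso.inv_comp_eq]
    change W.hom = W.left.toSpecΓ ≫ Spec.map ((Scheme.ΓSpecIso (CommRingCat.of R)).inv ≫ W.hom.appTop)
    rw [Spec.map_comp, ← Scheme.toSpecΓ_naturality_assoc, toSpecΓ_SpecMap_ΓSpecIso_inv, Category.comp_id])
  haveI : IsIso j.left := by change IsIso W.left.isoSpec.inv; infer_instance
  haveI : Epi j := ⟨fun a b h => Over.OverMorphism.ext ((cancel_epi j.left).1 congr(($h).left))⟩
  rw [← cancel_epi j, MonObj.comp_one]
  obtain ⟨x, hx⟩ := exists_muPt (j ≫ fst _ _)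
  obtain ⟨y, hy⟩ := exists_muPt (j ≫ snd _ _)
  have h1 : j ≫ e = lift (muPt x) (muPt y) ≫ e := by
    rw [hx, hy, ← comp_lift, lift_fst_snd, Category.comp_id]
  rw [h1]
  apply val_injective
  apply MonoidHom.ext_mint
  rw [val_one]
  exact P.eq_one x y

end Extension

end Groth.Agent.MuPairing
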